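import Groth.Agent.CellExt29.Translate

/-!
# Homomorphisms are determined on an open cell, and extend from it
-/

set_option autoImplicit false

universe u

open CategoryTheory CategoryTheory.Limits MonoidalCategory CartesianMonoidalCategory AlgebraicGeometry
open scoped MonObj

namespace Groth.Agent.CellExt29

variable {S : Scheme.{u}} {G H W : Over S} [GrpObj G] [GrpObj H] (c : W ⟶ G) [IsOpenImmersion c.left]
  (hG : Red.IsReductive G) (hone : ∃ e : 𝟙_ (Over S) ⟶ W, e ≫ c = 1)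

include hG hone

/-- Homomorphisms which agree on the cell are equal. -/
theorem hom_ext (g g' : G ⟶ H) [IsMonHom g] [IsMonHom g'] (h : c ≫ g = c ≫ g') : g = g' := by
  obtain ⟨X', p, σ, ρ, hp, hρ⟩ := exists_translate c hG hone (X := G) (fun _ : Fin 1 => 𝟙 G)
  have := hp.epi
  have key : ∀ (q : G ⟶ H) [IsMonHom q], p ≫ q = (ρ 0 ≫ c ≫ q) * (σ ≫ c ≫ q)⁻¹ := by
    intro q _
    rw [eq_mul_inv_iff_mul_eq, ← Category.assoc (ρ 0), hρ 0, Category.comp_id, MonObj.mul_comp, Category.assoc]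
  rw [← cancel_epi p, key g, key g', h]

variable (f : W ⟶ H) (hf : ∀ (X : Over S) (x y z : X ⟶ W), z ≫ c = (x ≫ c) * (y ≫ c) → z ≫ f = (x ≫ f) * (y ≫ f))

include hf

/-- Two ways of writing a point as a quotient of cell points give the same value. -/
theorem wd {Y : Over S} (b : Y ⟶ G) (r s r' s' : Y ⟶ W) (h : r ≫ c = b * (s ≫ c)) (h' : r' ≫ c = b * (s' ≫ c)) :
    (r ≫ f) * (s ≫ f)⁻¹ = (r' ≫ f) * (s' ≫ f)⁻¹ := by
  obtain ⟨Y', q, t, ρ, hq, hρ⟩ := exists_translate c hG hone ![b, (s ≫ c)⁻¹, (s' ≫ c)⁻¹]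
  have := hq.epi
  have h0 : ρ 0 ≫ c = (q ≫ b) * (t ≫ c) := hρ 0
  have key : ∀ (u v : Y ⟶ W) (w : Y' ⟶ W), u ≫ c = b * (v ≫ c) → w ≫ c = (q ≫ (v ≫ c)⁻¹) * (t ≫ c) →
      q ≫ ((u ≫ f) * (v ≫ f)⁻¹) = (ρ 0 ≫ f) * (t ≫ f)⁻¹ := by
    intro u v w hu hw
    rw [GrpObj.comp_inv] at hw
    have e1 : t ≫ f = ((q ≫ v) ≫ f) * (w ≫ f) := hf _ _ _ _ (by rw [hw, Category.assoc, mul_inv_cancel_left])
    have e2 : ρ 0 ≫ f = ((q ≫ u) ≫ f) * (w ≫ f) := hf _ _ _ _ (by
      rw [h0, hw, Category.assoc, hu, MonObj.comp_mul, mul_assoc, mul_inv_cancel_left])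
    rw [MonObj.comp_mul, GrpObj.comp_inv, e1, e2, mul_inv_rev, ← Category.assoc, ← Category.assoc]
    group
  rw [← cancel_epi q, key r s (ρ 1) h (hρ 1), key r' s' (ρ 2) h' (hρ 2)]

/-- A multiplicative map on the cell extends to a homomorphism. -/
theorem exists_extend : ∃ g : G ⟶ H, IsMonHom g ∧ c ≫ g = f := by
  obtain ⟨X', p, σ, ρ, hp, hρ⟩ := exists_translate c hG hone (X := G) (fun _ : Fin 1 => 𝟙 G)
  have := hp.flat; have := hp.surj; have := hp.lfp
  have := hp.epi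
  have hρ' : ρ 0 ≫ c = p * (σ ≫ c) := (hρ 0).trans (by rw [Category.comp_id])
  let F : X' ⟶ H := (ρ 0 ≫ f) * (σ ≫ f)⁻¹
  have hd : ∀ {Z : Scheme.{u}} (g₁ g₂ : Z ⟶ X'.left), g₁ ≫ p.left = g₂ ≫ p.left → g₁ ≫ F.left = g₂ ≫ F.left := by
    intro Z g₁ g₂ h
    let Y : Over S := Over.mk (g₁ ≫ X'.hom)
    let a₁ : Y ⟶ X' := Over.homMk g₁
    let a₂ : Y ⟶ X' := Over.homMk g₂ (by
      show g₂ ≫ X'.hom = g₁ ≫ X'.hom
      rw [← Over.w p, ← Category.assoc, ← Category.assoc, h])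
    have ha : a₁ ≫ p = a₂ ≫ p := Over.OverMorphism.ext h
    have e : a₁ ≫ F = a₂ ≫ F := by
      simp only [F, MonObj.comp_mul, GrpObj.comp_inv, ← Category.assoc]
      refine wd c hG hone f hf (a₁ ≫ p) _ _ _ _ ?_ ?_
      · rw [Category.assoc, hρ', MonObj.comp_mul, Category.assoc]
      · rw [Category.assoc, hρ', MonObj.comp_mul, Category.assoc, ha]
    exact congrArg CommaMorphism.left e
  let g₀ : G.left ⟶ H.left := EffectiveEpi.desc p.left F.left hd
  have hg₀ : p.left ≫ g₀ = F.left := EffectiveEpi.fac p.left F.left hd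
  let g : G ⟶ H := Over.homMk g₀ (by
    have : Epi p.left := Flat.epi_of_flat_of_surjective _
    rw [← cancel_epi p.left, ← Category.assoc, hg₀, Over.w F, Over.w p])
  have hg : p ≫ g = F := Over.OverMorphism.ext hg₀
  have val : ∀ {Y : Over S} (b : Y ⟶ G) (r s : Y ⟶ W), r ≫ c = b * (s ≫ c) →
      b ≫ g = (r ≫ f) * (s ≫ f)⁻¹ := by
    intro Y b r s h
    let Y' : Over S := Over.mk (pullback.fst b.left p.left ≫ Y.hom)
    let q : Y' ⟶ Y := Over.homMk (pullback.fst b.left p.left)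
    let l : Y' ⟶ X' := Over.homMk (pullback.snd b.left p.left) (by
      show pullback.snd b.left p.left ≫ X'.hom = pullback.fst b.left p.left ≫ Y.hom
      rw [← Over.w p, ← Category.assoc, ← pullback.condition, Category.assoc, Over.w b])
    have hql : q ≫ b = l ≫ p := Over.OverMorphism.ext pullback.condition
    have hqc : IsCov q := ⟨inferInstanceAs (Flat (pullback.fst b.left p.left)),
      inferInstanceAs (Surjective (pullback.fst b.left p.left)),
      inferInstanceAs (LocallyOfFinitePresentation (pullback.fst b.left p.left))⟩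
    have := hqc.epi
    rw [← cancel_epi q, ← Category.assoc, hql, Category.assoc, hg]
    simp only [F, MonObj.comp_mul, GrpObj.comp_inv, ← Category.assoc]
    refine wd c hG hone f hf (q ≫ b) _ _ _ _ ?_ ?_
    · rw [Category.assoc, hρ', MonObj.comp_mul, Category.assoc, hql]
    · rw [Category.assoc, h, MonObj.comp_mul, Category.assoc]
  refine ⟨g, ?_, ?_⟩
  · have hmul : μ[G] ≫ g = (g ⊗ₘ g) ≫ μ[H] := by
      have e1 : μ[G] = fst G G * snd G G := by
        rw [Hom.mul_def, lift_fst_snd, Category.id_comp]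
      have e2 : (g ⊗ₘ g) ≫ μ[H] = (fst G G ≫ g) * (snd G G ≫ g) := by
        rw [Hom.mul_def]
        congr 1
      obtain ⟨Y', q, t, ρ', hq, hρ''⟩ := exists_translate c hG hone ![snd G G, fst G G * snd G G]
      have := hq.epi
      have h0 : ρ' 0 ≫ c = (q ≫ snd G G) * (t ≫ c) := hρ'' 0
      have h1 : ρ' 1 ≫ c = (q ≫ (fst G G * snd G G)) * (t ≫ c) := hρ'' 1
      have h2 : ρ' 1 ≫ c = (q ≫ fst G G) * (ρ' 0 ≫ c) := by rw [h1, h0, MonObj.comp_mul, mul_assoc]
      rw [← cancel_epi q, e2, e1, MonObj.comp_mul, ← Category.assoc, ← Category.assoc, ← Category.assoc,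
        val _ _ _ h1, val _ _ _ h2, val _ _ _ h0]
      group
    have hone' : η[G] ≫ g = η[H] := by
      have h1 : (1 : 𝟙_ (Over S) ⟶ G) ≫ g = 1 := by
        have h := congrArg (lift (1 : 𝟙_ (Over S) ⟶ G) 1 ≫ ·) hmul
        simp only [← Category.assoc, ← Hom.mul_def, lift_map, _root_.one_mul] at h
        exact mul_eq_left.mp h.symm
      simpa [Hom.one_def] using h1
    exact { one_hom := hone', mul_hom := hmul }
  · obtain ⟨Y', q, t, ρ', hq, hρ''⟩ := exists_translate c hG hone ![c]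
    have := hq.epi
    have h0 : ρ' 0 ≫ c = (q ≫ c) * (t ≫ c) := hρ'' 0
    have e : ρ' 0 ≫ f = ((q ≫ 𝟙 W) ≫ f) * (t ≫ f) := hf _ _ _ _ (by rw [h0, Category.comp_id])
    rw [← cancel_epi q, ← Category.assoc, val _ _ _ h0, e, Category.comp_id]
    group

end Groth.Agent.CellExt29
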