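import Groth.Agent.GrpSchLib.RankOneDense
import Mathlib.AlgebraicGeometry.Sites.Fpqc

/-!
# Translating finitely many points into an open cell, fppf-locally
-/

set_option autoImplicit false

universe u

open CategoryTheory CategoryTheory.Limits MonoidalCategory CartesianMonoidalCategory AlgebraicGeometry
open scoped MonObj

namespace Groth.Agent.CellExt29

variable {S : Scheme.{u}}

/-- An fppf covering morphism over the base. -/
structure IsCov {X' X : Over S} (p : X' ⟶ X) : Prop where
  flat : Flat p.left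
  surj : Surjective p.left
  lfp : LocallyOfFinitePresentation p.left

theorem IsCov.epi {X' X : Over S} {p : X' ⟶ X} (hp : IsCov p) : Epi p := by
  have := hp.flat
  have := hp.surj
  have : Epi p.left := Flat.epi_of_flat_of_surjective _
  exact (Over.forget S).epi_of_epi_map this

theorem IsCov.comp {X'' X' X : Over S} {q : X'' ⟶ X'} {p : X' ⟶ X} (hq : IsCov q) (hp : IsCov p) : IsCov (q ≫ p) := by
  have := hq.flat; have := hq.surj; have := hq.lfp; have := hp.flat; have := hp.surj; have := hp.lfp
  exact ⟨inferInstanceAs (Flat (q.left ≫ p.left)), inferInstanceAs (Surjective (q.left ≫ p.left)),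
    inferInstanceAs (LocallyOfFinitePresentation (q.left ≫ p.left))⟩

variable {G W : Over S} [GrpObj G] (c : W ⟶ G) [IsOpenImmersion c.left]

/-- An open set of points which are moved into the cell. -/
noncomputable def transOpen {X : Over S} {k : ℕ} (h : Fin k → (X ⟶ G)) : (X ⊗ W).left.Opens :=
  ⟨⋂ i, ((fst X W ≫ h i) * (snd X W ≫ c)).left.base ⁻¹' Set.range c.left.base,
    isOpen_iInter_of_finite fun i => c.left.isOpenEmbedding.isOpen_range.preimage (Scheme.Hom.continuous _)⟩

/-- Finitely many points are simultaneously moved into the cell by a cell point, fppf-locally. -/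
theorem exists_translate (hG : Red.IsReductive G) (hone : ∃ e : 𝟙_ (Over S) ⟶ W, e ≫ c = 1) {X : Over S} {k : ℕ}
    (h : Fin k → (X ⟶ G)) :
    ∃ (X' : Over S) (p : X' ⟶ X) (σ : X' ⟶ W) (ρ : Fin k → (X' ⟶ W)),
      IsCov p ∧ ∀ i, ρ i ≫ c = (p ≫ h i) * (σ ≫ c) := by
  classical
  let O := transOpen c h
  let X' : Over S := Over.mk (O.ι ≫ (X ⊗ W).hom)
  let j : X' ⟶ X ⊗ W := Over.homMk O.ι
  let φ : Fin k → (X ⊗ W ⟶ G) := fun i => (fst X W ≫ h i) * (snd X W ≫ c)
  have hr : ∀ i, Set.range (j ≫ φ i).left.base ⊆ Set.range c.left.base := by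
    rintro i _ ⟨w, rfl⟩
    rw [Over.comp_left, Scheme.Hom.comp_apply]
    exact Set.mem_iInter.mp (show O.ι.base w ∈ (O : Set _) from O.range_ι.le ⟨w, rfl⟩) i
  let ρ : Fin k → (X' ⟶ W) := fun i => Over.homMk (IsOpenImmersion.lift c.left (j ≫ φ i).left (hr i)) (by
    rw [← Over.w c, IsOpenImmersion.lift_fac_assoc, Over.w])
  refine ⟨X', j ≫ fst X W, j ≫ snd X W, ρ, ?_, fun i => ?_⟩
  · have : Smooth G.hom := hG.2.1
    have hW : Smooth W.hom := by rw [← Over.w c]; infer_instance
    have h1 : Smooth (fst X W).left := MorphismProperty.of_isPullback (P := @Smooth)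
      (IsPullback.of_hasPullback X.hom W.hom).flip hW
    have h2 : IsOpenImmersion j.left := inferInstanceAs (IsOpenImmersion O.ι)
    refine ⟨?_, ?_, ?_⟩
    · rw [Over.comp_left]; infer_instance
    · refine ⟨fun x => ?_⟩
      let K := AlgebraicClosure (X.left.residueField x)
      let x₀ : Spec (CommRingCat.of K) ⟶ X.left :=
        Spec.map (CommRingCat.ofHom (algebraMap (X.left.residueField x) K)) ≫ X.left.fromSpecResidueField x
      let b : Spec (CommRingCat.of K) ⟶ S := x₀ ≫ X.hom
      let xk : Over.mk b ⟶ X := Over.homMk x₀ rfl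
      have := GrpSchLib.RankOne.irreducible_fibre hG b
      have : IrreducibleSpace ↥(Over.mk b ⊗ G).left :=
        (pullbackSymmetry b G.hom).hom.homeomorph.irreducibleSpace_iff.mpr inferInstance
      let ξ := genericPoint ↥(Over.mk b ⊗ G).left
      have hmem : ∀ ψ : Over.mk b ⊗ G ⟶ G, (∃ g : Over.mk b ⟶ G, lift (𝟙 _) g ≫ ψ = 1) →
          ψ.left.base ξ ∈ Set.range c.left.base := by
        rintro ψ ⟨g, hg⟩
        obtain ⟨e, he⟩ := hone
        let pt := (lift (𝟙 _) g).left.base (IsLocalRing.closedPoint K)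
        have hpt : pt ∈ ψ.left.base ⁻¹' Set.range c.left.base := by
          refine ⟨(toUnit (Over.mk b) ≫ e).left.base (IsLocalRing.closedPoint K), ?_⟩
          have hh : (toUnit (Over.mk b) ≫ e) ≫ c = lift (𝟙 _) g ≫ ψ := by
            rw [hg, Category.assoc, he, MonObj.comp_one]
          exact congrArg (fun q : Over.mk b ⟶ G => q.left.base (IsLocalRing.closedPoint K)) hh
        exact (genericPoint_specializes pt).mem_open
          (c.left.isOpenEmbedding.isOpen_range.preimage (Scheme.Hom.continuous _)) hpt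
      have hc : (snd (Over.mk b) G).left.base ξ ∈ Set.range c.left.base := hmem _ ⟨1, lift_snd _ _⟩
      have hh : ∀ i, ((fst _ G ≫ xk ≫ h i) * snd _ G).left.base ξ ∈ Set.range c.left.base := fun i =>
        hmem _ ⟨(xk ≫ h i)⁻¹, by rw [MonObj.comp_mul, lift_fst_assoc, lift_snd, Category.id_comp, mul_inv_cancel]⟩
      let L := (Over.mk b ⊗ G).left.residueField ξ
      let pz : Spec (CommRingCat.of L) ⟶ (Over.mk b ⊗ G).left := (Over.mk b ⊗ G).left.fromSpecResidueField ξ
      let Z : Over S := Over.mk (pz ≫ (Over.mk b ⊗ G).hom)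
      let z : Z ⟶ Over.mk b ⊗ G := Over.homMk pz
      have hz : ∀ t, z.left.base t = ξ := fun t => Scheme.fromSpecResidueField_apply ξ t
      have hrw : Set.range (z ≫ snd (Over.mk b) G).left.base ⊆ Set.range c.left.base := by
        rintro _ ⟨t, rfl⟩
        rw [Over.comp_left, Scheme.Hom.comp_apply, hz]
        exact hc
      let w : Z ⟶ W := Over.homMk (IsOpenImmersion.lift c.left (z ≫ snd (Over.mk b) G).left hrw) (by
        rw [← Over.w c, IsOpenImmersion.lift_fac_assoc, Over.w])
      have hw : w ≫ c = z ≫ snd _ _ := Over.OverMorphism.ext (IsOpenImmersion.lift_fac _ _ _)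
      let q : Z ⟶ X ⊗ W := lift (z ≫ fst _ _ ≫ xk) w
      have hq : Set.range q.left.base ⊆ (O : Set _) := by
        rintro _ ⟨t, rfl⟩
        refine Set.mem_iInter.mpr fun i => ?_
        show (φ i).left.base (q.left.base t) ∈ Set.range c.left.base
        rw [← Scheme.Hom.comp_apply, ← Over.comp_left]
        have e : q ≫ φ i = z ≫ ((fst _ G ≫ xk ≫ h i) * snd _ G) := by
          simp only [φ, q, MonObj.comp_mul, lift_fst_assoc, lift_snd_assoc, hw, Category.assoc]
        rw [e, Over.comp_left, Scheme.Hom.comp_apply, hz]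
        exact hh i
      let t₀ : Spec (CommRingCat.of L) := IsLocalRing.closedPoint L
      obtain ⟨o, ho⟩ := O.range_ι.ge (hq ⟨t₀, rfl⟩)
      refine ⟨o, ?_⟩
      rw [Over.comp_left, Scheme.Hom.comp_apply]
      show (fst X W).left.base (O.ι.base o) = x
      rw [ho, ← Scheme.Hom.comp_apply, ← Over.comp_left, lift_fst, Over.comp_left, Scheme.Hom.comp_apply,
        Over.comp_left, Scheme.Hom.comp_apply]
      show (Spec.map _ ≫ X.left.fromSpecResidueField x).base _ = x
      rw [Scheme.Hom.comp_apply]
      exact Scheme.fromSpecResidueField_apply x _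
    · rw [Over.comp_left]; infer_instance
  · show Over.homMk _ _ ≫ c = _
    rw [Category.assoc, Category.assoc, ← MonObj.comp_mul]
    exact Over.OverMorphism.ext (IsOpenImmersion.lift_fac _ _ _)

end Groth.Agent.CellExt29
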